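import Mathlib
import Groth.Agent.DeltaFlat.Main

/-!
Reducedness of fibres of a localisation of a base change to a field extension.
-/

namespace Groth.Agent.DeltaBC

open TensorProduct

universe u

/-- If `A` and `B` are localisations of `R` and `T`, then `B ⊗[A] F` is reduced as soon as
`F ⊗[R] T` is. -/
theorem isReduced_tensor_of_isLocalization {R T A B F : Type u} [CommRing R] [CommRing T]
    [CommRing A] [CommRing B] [CommRing F] [Algebra R T] [Algebra R A] [Algebra R B] [Algebra R F]
    [Algebra T B] [IsScalarTower R T B] [Algebra A B] [IsScalarTower R A B] [Algebra A F]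
    [IsScalarTower R A F] (N : Submonoid R) [IsLocalization N A] (M : Submonoid T)
    [IsLocalization M B] (h : IsReduced (F ⊗[R] T)) : IsReduced (B ⊗[A] F) := by
  let r : T →+* F ⊗[R] T :=
    (Algebra.TensorProduct.includeRight : T →ₐ[R] F ⊗[R] T).toRingHom
  let L := Localization (M.map r)
  have : IsReduced L := isReduced_localizationPreserves (M.map r) L h
  let ι : F ⊗[R] T →+* L := algebraMap (F ⊗[R] T) L
  have hunit : ∀ m : M, IsUnit ((ι.comp r) m) := fun m =>
    IsLocalization.map_units L (⟨r m, m, m.2, rfl⟩ : M.map r)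
  let β : B →+* L := IsLocalization.lift hunit
  have hβ : ∀ t, β (algebraMap T B t) = ι (r t) := fun t => IsLocalization.lift_eq hunit t
  let α : F →+* L := ι.comp (Algebra.TensorProduct.includeLeftRingHom)
  have hagree : β.comp (algebraMap A B) = algebraMap A L := by
    refine IsLocalization.ringHom_ext N (RingHom.ext fun x => ?_)
    change β (algebraMap A B (algebraMap R A x)) = α (algebraMap A F (algebraMap R A x))
    rw [← IsScalarTower.algebraMap_apply R A B, IsScalarTower.algebraMap_apply R T B, hβ,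
      ← IsScalarTower.algebraMap_apply R A F]
    exact congrArg ι ((AlgHom.commutes _ x).trans
      ((Algebra.TensorProduct.includeLeft : F →ₐ[R] F ⊗[R] T).commutes x).symm)
  let βA : B →ₐ[A] L := ⟨β, fun a => RingHom.congr_fun hagree a⟩
  let αA : F →ₐ[A] L := ⟨α, fun a => rfl⟩
  let Φ : B ⊗[A] F →ₐ[A] L := Algebra.TensorProduct.lift βA αA fun _ _ => Commute.all _ _
  let h₀ : F ⊗[R] T →ₐ[R] B ⊗[A] F := Algebra.TensorProduct.lift
    ((Algebra.TensorProduct.includeRight : F →ₐ[A] B ⊗[A] F).restrictScalars R)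
    (((Algebra.TensorProduct.includeLeft : B →ₐ[A] B ⊗[A] F).restrictScalars R).comp
      (IsScalarTower.toAlgHom R T B)) fun _ _ => Commute.all _ _
  have h₀r : ∀ t, h₀ (r t) = algebraMap T B t ⊗ₜ[A] (1 : F) := by
    intro t
    change h₀ (1 ⊗ₜ[R] t) = _
    simp [h₀]
  have h₀l : ∀ f : F, h₀ (f ⊗ₜ[R] 1) = 1 ⊗ₜ[A] f := by
    intro f
    simp [h₀, ← Algebra.TensorProduct.one_def]
  have hu₀ : ∀ m : M.map r, IsUnit (h₀.toRingHom m) := by
    rintro ⟨_, m, hm, rfl⟩
    change IsUnit (h₀ (r m))
    rw [h₀r]
    exact (IsLocalization.map_units B ⟨m, hm⟩).map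
      (Algebra.TensorProduct.includeLeftRingHom : B →+* B ⊗[A] F)
  let Ψ : L →+* B ⊗[A] F := IsLocalization.lift hu₀
  have hΨ : ∀ z, Ψ (ι z) = h₀ z := fun z => IsLocalization.lift_eq hu₀ z
  have hleft : Ψ.comp β = Algebra.TensorProduct.includeLeftRingHom :=
    IsLocalization.ringHom_ext M (RingHom.ext fun t => by
      simp only [RingHom.comp_apply, hβ, hΨ, h₀r, Algebra.TensorProduct.includeLeftRingHom_apply])
  have key : ∀ z, Ψ (Φ z) = z := by
    intro z
    induction z using TensorProduct.induction_on with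
    | zero => simp
    | tmul b f =>
      have e1 : Φ (b ⊗ₜ[A] f) = β b * ι (f ⊗ₜ[R] 1) := by simp [Φ, βA, αA, α]
      rw [e1, map_mul, hΨ, h₀l, ← RingHom.comp_apply, hleft]
      simp
    | add x y hx hy => rw [map_add, map_add, hx, hy]
  exact isReduced_of_injective Φ (Function.LeftInverse.injective key)

/-- The base change of a subfield is reduced when that of the field is. -/
theorem isReduced_tensor_of_injective {k F L K : Type u} [Field k] [CommRing F] [CommRing L]
    [CommRing K] [Algebra k F] [Algebra k L] [Algebra k K] (g : F →ₐ[k] L)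
    (hg : Function.Injective g) (h : IsReduced (L ⊗[k] K)) : IsReduced (F ⊗[k] K) :=
  isReduced_of_injective (Algebra.TensorProduct.map g (AlgHom.id k K))
    (Module.Flat.rTensor_preserves_injective_linearMap (M := K) g.toLinearMap hg)

/-- A reduced zero-dimensional closed fibre is the residue field. -/
theorem map_maximalIdeal_eq {A B : Type u} [CommRing A] [CommRing B] [Algebra A B] [IsDomain A]
    [IsLocalRing A] [IsLocalRing B] [IsLocalHom (algebraMap A B)] [Module.Flat A B]
    [Ring.KrullDimLE 1 B] (hA : ¬ IsField A)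
    (h : IsReduced (B ⊗[A] (A ⧸ IsLocalRing.maximalIdeal A))) :
    (IsLocalRing.maximalIdeal A).map (algebraMap A B) = IsLocalRing.maximalIdeal B := by
  let J := (IsLocalRing.maximalIdeal A).map (algebraMap A B)
  have e := Algebra.TensorProduct.quotIdealMapEquivTensorQuot B (IsLocalRing.maximalIdeal A)
  have hred : IsReduced (B ⧸ J) := isReduced_of_injective e e.injective
  have hrad : J.IsRadical := (Ideal.isRadical_iff_quotient_reduced J).2 hred
  have hne : J ≠ ⊤ := fun htop => (IsLocalRing.maximalIdeal.isMaximal B).ne_top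
    (eq_top_iff.2 (htop.ge.trans (Ideal.map_le_iff_le_comap.2
      (IsLocalRing.maximalIdeal_comap (algebraMap A B)).ge)))
  refine le_antisymm (IsLocalRing.le_maximalIdeal hne) (le_trans ?_ hrad)
  rw [Ideal.radical_eq_sInf]
  refine le_sInf fun P ⟨hJP, hP⟩ => ?_
  rcases (Ring.krullDimLE_one_iff.1 inferInstance P hP) with hmin | hmax
  · obtain ⟨a, ha, ha0⟩ := Submodule.exists_mem_ne_zero_of_ne_bot
      (fun hb => hA (IsLocalRing.isField_iff_maximalIdeal_eq.2 hb))
    exact absurd (DeltaFlat.algebraMap_mem_nonZeroDivisors (B := B)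
        (mem_nonZeroDivisors_of_ne_zero ha0))
      (notMem_nonZeroDivisors_of_mem_mem_minimalPrimes
        (hJP (Ideal.mem_map_of_mem _ ha)) hmin)
  · exact (IsLocalRing.eq_maximalIdeal hmax).ge

end Groth.Agent.DeltaBC
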