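import Groth.Prelude.Def_Curv2
import Groth.Agent.DeltaBC.Algebra
import Groth.Agent.NormalizationAffine.Basic

set_option autoImplicit false

/-!
The local rings of the base change of a scheme to a field extension; residue fields of the
normalization as residue fields of the integral closure of the stalk.
-/

namespace Groth.Agent.DeltaBC

open CategoryTheory CategoryTheory.Limits AlgebraicGeometry TensorProduct

universe u

variable {k : Type u} [Field k]

/-- The structure map of a `k`-scheme restricted to the spectrum of a local ring. -/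
theorem fromSpecStalk_over (X : Scheme.{u}) [X.Over (Spec (CommRingCat.of k))] (x : X) :
    X.fromSpecStalk x ≫ (X ↘ Spec (CommRingCat.of k)) =
      Spec.map (CommRingCat.ofHom (Curv2.stalkMap k X x)) := by
  have h : X ↘ Spec (CommRingCat.of k) =
      X.toSpecΓ ≫ Spec.map ((X ↘ Spec (CommRingCat.of k)).appTop) ≫
        Spec.map (Scheme.ΓSpecIso (CommRingCat.of k)).inv := by
    rw [← reassoc_of% Scheme.toSpecΓ_naturality, ← SpecMap_ΓSpecIso_hom, ← Spec.map_comp,
      Iso.inv_hom_id, Spec.map_id, Category.comp_id]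
  conv_lhs => rw [h]
  rw [← Category.assoc, Scheme.fromSpecStalk_toSpecΓ, ← Spec.map_comp, ← Spec.map_comp]
  rfl

/-- Tensor products with a field extension of a geometrically reduced field are reduced. -/
theorem isReduced_tensor_of_geometricallyReduced {L : Type u} [Field L] [Algebra k L]
    (h : GeometricallyReduced (Spec.map (CommRingCat.ofHom (algebraMap k L))))
    (K : Type u) [Field K] [Algebra k K] : _root_.IsReduced (L ⊗[k] K) := by
  have h1 : AlgebraicGeometry.IsReduced (pullback (Spec.map (CommRingCat.ofHom (algebraMap k L)))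
      (Spec.map (CommRingCat.ofHom (algebraMap k K)))) :=
    h.geometrically_isReduced _ _ _ (IsPullback.of_hasPullback _ _)
  have h2 : AlgebraicGeometry.IsReduced (Spec (CommRingCat.of (L ⊗[k] K))) :=
    isReduced_of_isOpenImmersion (pullbackSpecIso k L K).inv
  exact (affine_isReduced_iff (CommRingCat.of (L ⊗[k] K))).1 h2

variable (X : Scheme.{u}) [X.Over (Spec (CommRingCat.of k))] (K : Type u) [Field K] [Algebra k K]

/-- For `y` in `X_K` over `x`, and an algebra `F` over `O_x`, the fibre `O_y ⊗ F` is reduced as soon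
as `F ⊗_k K` is. -/
theorem isReduced_stalk_tensor (y : ↥(Curv2.bc k X K))
    (F : Type u) [CommRing F] [Algebra (X.presheaf.stalk ((Curv2.bcFst k X K).base y)) F]
    (h : letI : Algebra k F := ((algebraMap (X.presheaf.stalk ((Curv2.bcFst k X K).base y)) F).comp
        (Curv2.stalkMap k X _)).toAlgebra
      _root_.IsReduced (F ⊗[k] K)) :
    letI := ((Curv2.bcFst k X K).stalkMap y).hom.toAlgebra
    _root_.IsReduced (((Curv2.bc k X K).presheaf.stalk y) ⊗[X.presheaf.stalk ((Curv2.bcFst k X K).base y)] F) := by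
  let : Algebra (X.presheaf.stalk ((Curv2.bcFst k X K).base y)) ((Curv2.bc k X K).presheaf.stalk y) :=
    ((Curv2.bcFst k X K).stalkMap y).hom.toAlgebra
  obtain ⟨U, hU, hxU, -⟩ := exists_isAffineOpen_mem_and_subset
    (show (Curv2.bcFst k X K).base y ∈ (⊤ : X.Opens) from trivial)
  let R : Type u := Γ(X, U)
  let φ : CommRingCat.of k ⟶ Γ(X, U) := Spec.preimage (hU.fromSpec ≫ (X ↘ Spec (CommRingCat.of k)))
  have hφ : Spec.map φ = hU.fromSpec ≫ (X ↘ Spec (CommRingCat.of k)) := Spec.map_preimage _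
  let : Algebra k Γ(X, U) := φ.hom.toAlgebra
  have hg : hU.fromSpec ≫ (X ↘ Spec (CommRingCat.of k)) =
      Spec.map (CommRingCat.ofHom (algebraMap k Γ(X, U))) := hφ.symm
  let m : Spec (CommRingCat.of (Γ(X, U) ⊗[k] K)) ⟶ Curv2.bc k X K :=
    (pullbackSpecIso k Γ(X, U) K).inv ≫ pullback.map _ _ _ _ hU.fromSpec (𝟙 _) (𝟙 _)
      (by rw [Category.comp_id, hg]) (by rw [Category.comp_id, Category.id_comp])
  have : IsOpenImmersion m := inferInstanceAs (IsOpenImmersion (_ ≫ _))
  have hy : y ∈ Set.range m := by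
    have : y ∈ Set.range (pullback.map (Spec.map (CommRingCat.ofHom (algebraMap k Γ(X, U))))
        (Spec.map (CommRingCat.ofHom (algebraMap k K))) (X ↘ Spec (CommRingCat.of k))
        (Spec.map (CommRingCat.ofHom (algebraMap k K))) hU.fromSpec (𝟙 _) (𝟙 _)
        (by rw [Category.comp_id, hg]) (by rw [Category.comp_id, Category.id_comp])) := by
      rw [Scheme.Pullback.range_map, hU.range_fromSpec]
      exact ⟨hxU, ⟨_, rfl⟩⟩
    obtain ⟨t, ht⟩ := this
    refine ⟨(pullbackSpecIso k Γ(X, U) K).hom t, ?_⟩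
    simp only [m, ← Scheme.Hom.comp_apply, Iso.hom_inv_id_assoc]
    exact ht
  obtain ⟨z, rfl⟩ := hy
  let z' : PrimeSpectrum (Γ(X, U) ⊗[k] K) := z
  let algSt : Algebra (Γ(X, U) ⊗[k] K) ((Spec (CommRingCat.of (Γ(X, U) ⊗[k] K))).presheaf.stalk z) :=
    StructureSheaf.stalkAlgebra (Γ(X, U) ⊗[k] K) z'
  -- algebra structures
  have hiso : IsIso (m.stalkMap z) := by infer_instance
  let toZ : CommRingCat.of (Γ(X, U) ⊗[k] K) ⟶ (Spec (CommRingCat.of (Γ(X, U) ⊗[k] K))).presheaf.stalk z :=
    StructureSheaf.toStalk _ z'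
  let toSt : CommRingCat.of (Γ(X, U) ⊗[k] K) ⟶ (Curv2.bc k X K).presheaf.stalk (m z) :=
    toZ ≫ inv (m.stalkMap z)
  have hm : m ≫ Curv2.bcFst k X K =
      Spec.map (CommRingCat.ofHom Algebra.TensorProduct.includeLeftRingHom) ≫ hU.fromSpec := by
    simp only [m, Curv2.bcFst, Category.assoc, pullback.map, pullback.lift_fst]
    exact pullbackSpecIso_inv_fst_assoc k Γ(X, U) K _
  have hsquare : X.presheaf.germ U _ hxU ≫ (Curv2.bcFst k X K).stalkMap (m z) =
      CommRingCat.ofHom Algebra.TensorProduct.includeLeftRingHom ≫ toSt := by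
    apply Spec.map_injective
    rw [← cancel_mono hU.fromSpec]
    simp only [Spec.map_comp, Category.assoc, toSt]
    have e : Spec.map (X.presheaf.germ U _ hxU) ≫ hU.fromSpec = X.fromSpecStalk _ :=
      hU.fromSpecStalk_eq_fromSpecStalk hxU
    rw [e, Scheme.SpecMap_stalkMap_fromSpecStalk, ← cancel_epi (Spec.map (m.stalkMap z)),
      ← Category.assoc, Scheme.SpecMap_stalkMap_fromSpecStalk, Category.assoc, hm,
      Spec.fromSpecStalk_eq', ← Spec.map_comp_assoc (inv (m.stalkMap z)), IsIso.inv_hom_id, Spec.map_id,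
      Category.id_comp]
    rfl
  let : Algebra (Γ(X, U) ⊗[k] K) ((Curv2.bc k X K).presheaf.stalk (m z)) := toSt.hom.toAlgebra
  have hlocB : IsLocalization z'.asIdeal.primeCompl ((Curv2.bc k X K).presheaf.stalk (m z)) :=
    (IsLocalization.isLocalization_iff_of_ringEquiv z'.asIdeal.primeCompl
      (S := (Spec (CommRingCat.of (Γ(X, U) ⊗[k] K))).presheaf.stalk z)
      (asIso (m.stalkMap z)).symm.commRingCatIsoToRingEquiv).mp
      (StructureSheaf.IsLocalization.to_stalk _ z')
  let : Algebra Γ(X, U) (X.presheaf.stalk ((Curv2.bcFst k X K).base (m z))) :=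
    TopCat.Presheaf.algebra_section_stalk X.presheaf ⟨_, hxU⟩
  have hlocA := hU.isLocalization_stalk ⟨_, hxU⟩
  let : Algebra Γ(X, U) ((Curv2.bc k X K).presheaf.stalk (m z)) :=
    (toSt.hom.comp Algebra.TensorProduct.includeLeftRingHom).toAlgebra
  have : IsScalarTower Γ(X, U) (Γ(X, U) ⊗[k] K) ((Curv2.bc k X K).presheaf.stalk (m z)) :=
    IsScalarTower.of_algebraMap_eq' rfl
  have : IsScalarTower Γ(X, U) (X.presheaf.stalk ((Curv2.bcFst k X K).base (m z)))
      ((Curv2.bc k X K).presheaf.stalk (m z)) :=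
    IsScalarTower.of_algebraMap_eq' (congrArg CommRingCat.Hom.hom hsquare).symm
  let : Algebra Γ(X, U) F := ((algebraMap (X.presheaf.stalk ((Curv2.bcFst k X K).base (m z))) F).comp
    (algebraMap Γ(X, U) (X.presheaf.stalk ((Curv2.bcFst k X K).base (m z))))).toAlgebra
  have : IsScalarTower Γ(X, U) (X.presheaf.stalk ((Curv2.bcFst k X K).base (m z))) F :=
    IsScalarTower.of_algebraMap_eq' rfl
  let : Algebra k F := ((algebraMap (X.presheaf.stalk ((Curv2.bcFst k X K).base (m z))) F).comp
    (Curv2.stalkMap k X _)).toAlgebra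
  have hst : Curv2.stalkMap k X ((Curv2.bcFst k X K).base (m z)) =
      (algebraMap Γ(X, U) (X.presheaf.stalk ((Curv2.bcFst k X K).base (m z)))).comp φ.hom := by
    refine congrArg CommRingCat.Hom.hom (Spec.map_injective ?_ :
      CommRingCat.ofHom (Curv2.stalkMap k X _) = φ ≫ X.presheaf.germ U _ hxU)
    rw [← fromSpecStalk_over, Spec.map_comp, hφ, ← hU.fromSpecStalk_eq_fromSpecStalk hxU]
    exact Category.assoc _ _ _
  have : IsScalarTower k Γ(X, U) F := IsScalarTower.of_algebraMap_eq' (by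
    show (algebraMap _ F).comp (Curv2.stalkMap k X _) = _
    rw [hst]; rfl)
  refine isReduced_tensor_of_isLocalization (R := Γ(X, U)) (T := Γ(X, U) ⊗[k] K)
    (hU.primeIdealOf ⟨_, hxU⟩).asIdeal.primeCompl z'.asIdeal.primeCompl ?_
  have e := Algebra.TensorProduct.cancelBaseChange k Γ(X, U) Γ(X, U) F K
  exact isReduced_of_injective e e.injective

end Groth.Agent.DeltaBC
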