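import Groth.Agent.DeltaBC.Geom

set_option autoImplicit false

/-!
Residue fields of the integral closure of a local ring of an integral scheme, as residue fields of
points of the normalization.
-/

namespace Groth.Agent.DeltaBC

open CategoryTheory CategoryTheory.Limits AlgebraicGeometry TensorProduct Groth.Agent.NormalizationAffine

universe u

variable {k : Type u} [Field k] (X : Scheme.{u}) [X.Over (Spec (CommRingCat.of k))] [IsIntegral X]
  [QuasiCompact (X.fromSpecStalk (genericPoint X))] [QuasiSeparated (X.fromSpecStalk (genericPoint X))]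

set_option maxHeartbeats 400000 in
/-- Every residue field of the integral closure of `O_x` in its fraction field is the residue field
of a point of the normalization over `x`, compatibly with the maps from the base field. -/
theorem exists_residueField_equiv (x : X)
    (Q : Ideal (integralClosure (X.presheaf.stalk x) (FractionRing (X.presheaf.stalk x)))) [Q.IsMaximal] :
    letI : (Curv2.normalization X).Over (Spec (CommRingCat.of k)) :=
      ⟨Curv2.normalizationι X ≫ (X ↘ (Spec (CommRingCat.of k)))⟩
    ∃ (x' : ↥(Curv2.normalization X)) (_ : (Curv2.normalizationι X).base x' = x)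
      (ρ : (Curv2.normalization X).residueField x' ≃+*
        (integralClosure (X.presheaf.stalk x) (FractionRing (X.presheaf.stalk x)) ⧸ Q)),
      ∀ a : k, ρ (Curv2.resMap k (Curv2.normalization X) x' a) =
        Ideal.Quotient.mk Q (algebraMap (X.presheaf.stalk x)
          (integralClosure (X.presheaf.stalk x) (FractionRing (X.presheaf.stalk x)))
          (Curv2.stalkMap k X x a)) := by
  classical
  let : (Curv2.normalization X).Over (Spec (CommRingCat.of k)) :=
    ⟨Curv2.normalizationι X ≫ (X ↘ (Spec (CommRingCat.of k)))⟩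
  obtain ⟨U, hU, hxU, -⟩ := exists_isAffineOpen_mem_and_subset (show x ∈ (⊤ : X.Opens) from trivial)
  have : Nonempty U := ⟨⟨_, hxU⟩⟩
  have := isIntegralClosure_sect hU
  let : Algebra Γ(X, U) (X.presheaf.stalk x) :=
    TopCat.Presheaf.algebra_section_stalk X.presheaf ⟨x, hxU⟩
  have : IsScalarTower Γ(X, U) (X.presheaf.stalk x) X.functionField :=
    functionField_isScalarTower X U ⟨x, hxU⟩
  set p := (hU.primeIdealOf ⟨x, hxU⟩).asIdeal with hp
  have hSloc : IsLocalization.AtPrime (X.presheaf.stalk x) p := hU.isLocalization_stalk ⟨x, hxU⟩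
  set S : Type u := ↑(X.presheaf.stalk x) with hS
  let C := integralClosure S (FractionRing S)
  let θ : FractionRing S ≃ₐ[S] X.functionField := FractionRing.algEquiv S X.functionField
  let j : Sect (X := X) U →+* C := RingHom.codRestrict (θ.symm.toRingHom.comp (toK U)) C fun b =>
    (((IsIntegralClosure.isIntegral_iff (A := Sect U) (R := Γ(X, U)) (B := X.functionField)).mpr
      ⟨b, rfl⟩).tower_top (A := S)).map θ.symm.toAlgHom
  have hjA : ∀ a : Γ(X, U), j (algebraMap Γ(X, U) (Sect U) a) =
      algebraMap S C (algebraMap Γ(X, U) S a) := fun a => Subtype.ext <| by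
    show θ.symm (toK U (algebraMap Γ(X, U) (Sect U) a)) = algebraMap S (FractionRing S) _
    rw [toK_algebraMap, IsScalarTower.algebraMap_apply Γ(X, U) S X.functionField, θ.symm.commutes]
  have hjsurj : ∀ c : C, ∃ b, ∃ s ∈ p.primeCompl,
      c * algebraMap S C (algebraMap Γ(X, U) S s) = j b := by
    intro c
    have hc : IsIntegral S (θ c.1) := c.2.map θ.toAlgHom
    obtain ⟨⟨s, hs⟩, hint⟩ := hc.exists_multiple_integral_of_isLocalization p.primeCompl _
    obtain ⟨b, hb⟩ := (IsIntegralClosure.isIntegral_iff (A := Sect U) (R := Γ(X, U))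
      (B := X.functionField)).mp hint
    refine ⟨b, s, hs, Subtype.ext ?_⟩
    show c.1 * algebraMap S (FractionRing S) (algebraMap Γ(X, U) S s) = θ.symm (toK U b)
    apply θ.injective
    rw [map_mul, θ.commutes, θ.apply_symm_apply,
      show toK U b = algebraMap (Sect U) X.functionField b from rfl, hb, Submonoid.mk_smul,
      Algebra.smul_def, IsScalarTower.algebraMap_apply Γ(X, U) S X.functionField, mul_comm]
  -- the prime of the normalization and the point
  let π : C →+* C ⧸ Q := Ideal.Quotient.mk Q
  let q : PrimeSpectrum (Sect (X := X) U) := ⟨Q.comap j, Ideal.IsPrime.comap j⟩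
  have : Algebra.IsIntegral S C := inferInstance
  have hQS : Q.comap (algebraMap S C) = IsLocalRing.maximalIdeal S :=
    IsLocalRing.eq_maximalIdeal (Ideal.isMaximal_comap_of_isIntegral_of_isMaximal Q)
  have hqp : q.asIdeal.comap (algebraMap Γ(X, U) (Sect U)) = p := by
    show (Q.comap j).comap _ = p
    rw [Ideal.comap_comap, show j.comp (algebraMap Γ(X, U) (Sect U)) =
      (algebraMap S C).comp (algebraMap Γ(X, U) S) from RingHom.ext hjA, ← Ideal.comap_comap, hQS]
    exact IsLocalization.AtPrime.under_maximalIdeal S p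
  have hV := isAffineOpen_preimage (X := X) hU
  have hxV : hV.fromSpec q ∈ (Curv2.normalizationι X) ⁻¹ᵁ U := by
    rw [← SetLike.mem_coe, ← hV.range_fromSpec]; exact ⟨q, rfl⟩
  have hx : (Curv2.normalizationι X).base (hV.fromSpec q) = x := by
    have h1 := hU.SpecMap_appLE_fromSpec (Curv2.normalizationι X) hV le_rfl
    rw [← Scheme.Hom.app_eq_appLE] at h1
    let q' : ↥(Spec Γ(Curv2.normalization X, (Curv2.normalizationι X) ⁻¹ᵁ U)) := q
    have h2 : Spec.map ((Curv2.normalizationι X).app U) q' = hU.primeIdealOf ⟨x, hxU⟩ :=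
      PrimeSpectrum.ext hqp
    have h3 : Curv2.normalizationι X (hV.fromSpec q') =
        hU.fromSpec (Spec.map ((Curv2.normalizationι X).app U) q') := by
      rw [← Scheme.Hom.comp_apply, ← Scheme.Hom.comp_apply, h1]
    rw [h2, hU.fromSpec_primeIdealOf] at h3
    exact h3
  let x' := hV.fromSpec q
  let : Algebra (Sect U) ((Curv2.normalization X).presheaf.stalk x') :=
    TopCat.Presheaf.algebra_section_stalk (Curv2.normalization X).presheaf ⟨x', hxV⟩
  have hYloc : IsLocalization q.asIdeal.primeCompl ((Curv2.normalization X).presheaf.stalk x') :=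
    hV.isLocalization_stalk' q hxV
  have hunit : ∀ b : q.asIdeal.primeCompl, IsUnit ((π.comp j) b) := by
    intro b
    let := Ideal.Quotient.field Q
    exact (show (π.comp j) b ≠ 0 from fun h => b.2 ((Ideal.Quotient.eq_zero_iff_mem (I := Q)).mp h)).isUnit
  let g : (Curv2.normalization X).presheaf.stalk x' →+* C ⧸ Q := IsLocalization.lift (M := q.asIdeal.primeCompl) (P := C ⧸ Q) (g := π.comp j) hunit
  have hg : ∀ b, g (algebraMap (Sect U) _ b) = π (j b) := fun b => IsLocalization.lift_eq hunit b
  have hgsurj : Function.Surjective g := by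
    intro v
    obtain ⟨c, rfl⟩ := Ideal.Quotient.mk_surjective v
    obtain ⟨b, s, hs, hcs⟩ := hjsurj c
    have hsq : algebraMap Γ(X, U) (Sect U) s ∈ q.asIdeal.primeCompl := fun h => hs (hqp.le h)
    obtain ⟨w, hw⟩ := IsLocalization.map_units ((Curv2.normalization X).presheaf.stalk x')
      (⟨_, hsq⟩ : q.asIdeal.primeCompl)
    refine ⟨algebraMap (Sect U) _ b * (↑w⁻¹ : _), ?_⟩
    have hu : IsUnit (π (algebraMap S C (algebraMap Γ(X, U) S s))) := by
      rw [← hjA]; exact hunit ⟨_, hsq⟩
    apply hu.mul_right_cancel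
    have h1 : g (↑w⁻¹ : _) * π (algebraMap S C (algebraMap Γ(X, U) S s)) = 1 := by
      rw [← hjA, ← hg, ← map_mul, ← map_one g]
      exact congrArg g (by rw [← hw]; exact w.inv_mul)
    rw [map_mul, mul_assoc, h1, mul_one, hg, ← hcs, map_mul]
  have hgloc : ∀ a ∈ IsLocalRing.maximalIdeal ((Curv2.normalization X).presheaf.stalk x'), g a = 0 := by
    intro a ha
    obtain ⟨⟨b, s⟩, hbs⟩ := IsLocalization.surj q.asIdeal.primeCompl a
    have hb : b ∈ q.asIdeal := (IsLocalization.AtPrime.to_map_mem_maximal_iff _ q.asIdeal b).1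
      (hbs ▸ Ideal.mul_mem_right _ _ ha)
    have h := congrArg g hbs
    rw [map_mul, hg, hg, show π (j b) = 0 from Ideal.Quotient.eq_zero_iff_mem.mpr hb] at h
    exact (hunit s).mul_left_eq_zero.mp h
  have hsur : Function.Surjective ((Curv2.normalization X).residue x').hom :=
    (Curv2.normalization X).residue_surjective x'
  have hker : RingHom.ker ((Curv2.normalization X).residue x').hom ≤ RingHom.ker g := fun a ha =>
    hgloc a ((IsLocalRing.residue_eq_zero_iff a).mp ha)
  let ρ₀ := RingHom.liftOfSurjective ((Curv2.normalization X).residue x').hom hsur ⟨g, hker⟩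
  have hρ₀ : ∀ a, ρ₀ (((Curv2.normalization X).residue x').hom a) = g a :=
    RingHom.liftOfSurjective_comp_apply _ hsur ⟨g, hker⟩
  have : Nontrivial (C ⧸ Q) := Ideal.Quotient.nontrivial_iff.mpr (Ideal.IsMaximal.ne_top inferInstance)
  have hρ : Function.Bijective ρ₀ := ⟨RingHom.injective _, fun v => by
    obtain ⟨a, rfl⟩ := hgsurj v
    exact ⟨_, hρ₀ a⟩⟩
  refine ⟨x', hx, RingEquiv.ofBijective ρ₀ hρ, fun a => ?_⟩
  rw [Curv2.resMap, RingHom.comp_apply, RingEquiv.ofBijective_apply, hρ₀]
  show g (Curv2.stalkMap k (Curv2.normalization X) x' a) = _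
  let φ : CommRingCat.of k ⟶ Γ(X, U) := Spec.preimage (hU.fromSpec ≫ (X ↘ Spec (CommRingCat.of k)))
  have hφ : Spec.map φ = hU.fromSpec ≫ (X ↘ Spec (CommRingCat.of k)) := Spec.map_preimage _
  have hX : CommRingCat.ofHom (Curv2.stalkMap k X x) = φ ≫ X.presheaf.germ U _ hxU := by
    apply Spec.map_injective
    rw [← fromSpecStalk_over, Spec.map_comp, hφ, ← hU.fromSpecStalk_eq_fromSpecStalk hxU]
    exact Category.assoc _ _ _
  have hY : CommRingCat.ofHom (Curv2.stalkMap k (Curv2.normalization X) x') =
      φ ≫ (Curv2.normalizationι X).app U ≫ (Curv2.normalization X).presheaf.germ _ _ hxV := by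
    apply Spec.map_injective
    rw [← fromSpecStalk_over, Spec.map_comp, Spec.map_comp, hφ,
      ← hV.fromSpecStalk_eq_fromSpecStalk hxV, IsAffineOpen.fromSpecStalk]
    have h1 := hU.SpecMap_appLE_fromSpec (Curv2.normalizationι X) hV le_rfl
    rw [← Scheme.Hom.app_eq_appLE] at h1
    simp only [Category.assoc]
    rw [reassoc_of% h1]
    rfl
  have e1 : Curv2.stalkMap k (Curv2.normalization X) x' a =
      algebraMap (Sect U) _ (algebraMap Γ(X, U) (Sect U) (φ.hom a)) :=
    RingHom.congr_fun (congrArg CommRingCat.Hom.hom hY) a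
  have e2 : Curv2.stalkMap k X x a = algebraMap Γ(X, U) S (φ.hom a) :=
    RingHom.congr_fun (congrArg CommRingCat.Hom.hom hX) a
  rw [e1, hg, hjA, e2]

end Groth.Agent.DeltaBC
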